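import Mathlib

/-!
# Abstract tools for "internal Hom out of a finitely presented object commutes with filtered colimits"
(helper2)

* `preservesColimit_of_jointly`: a functor preserves a colimit if it does so after composing with a
  jointly conservative family of colimit-preserving functors;
* `preservesColimit_of_kernel`: the kernel of a natural transformation between functors preserving
  a colimit of a shape with exact colimits preserves that colimit;
* `isLimitKernelForkConj`: conjugates (mates) of a right exact sequence of left adjoints form a left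
  exact sequence of right adjoints;
* `biprodFunctor`, `biprodAdj`: `G ↦ ⨁_I G` is self adjoint.
-/

set_option autoImplicit false

universe v₁ v₂ v₃ u₁ u₂ u₃ w w'

open CategoryTheory CategoryTheory.Limits

namespace Groth.Agent.Lib.Helper2.IHomColim

section Jointly

variable {𝒜 : Type u₁} [Category.{v₁} 𝒜] {ℬ : Type u₂} [Category.{v₂} ℬ]
  {Λ : Type w} [Category.{w'} Λ]

/-- a functor preserves a colimit as soon as it does so after composition with each member of a
jointly conservative family of functors preserving the relevant colimit -/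
theorem preservesColimit_of_jointly (H : 𝒜 ⥤ ℬ) (D : Λ ⥤ 𝒜) [HasColimit D] [HasColimit (D ⋙ H)]
    {ι : Type*} {ℬi : ι → Type u₃} [∀ i, Category.{v₃} (ℬi i)] (R : ∀ i, ℬ ⥤ ℬi i)
    (hR : ∀ {A B : ℬ} (f : A ⟶ B), (∀ i, IsIso ((R i).map f)) → IsIso f)
    [∀ i, PreservesColimit (D ⋙ H) (R i)] [∀ i, PreservesColimit D (H ⋙ R i)] :
    PreservesColimit D H := by
  apply preservesColimit_of_preserves_colimit_cocone (colimit.isColimit D)
  let t := H.mapCocone (colimit.cocone D)
  let P := colimit.isColimit (D ⋙ H)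
  have hiso : IsIso (P.desc t) := by
    apply hR
    intro i
    have h1 : IsColimit ((R i).mapCocone (colimit.cocone (D ⋙ H))) :=
      isColimitOfPreserves (R i) P
    have h2 : IsColimit ((H ⋙ R i).mapCocone (colimit.cocone D)) :=
      isColimitOfPreserves (H ⋙ R i) (colimit.isColimit D)
    have h2' : IsColimit ((R i).mapCocone t) := h2
    have e : (R i).map (P.desc t) = (h1.coconePointUniqueUpToIso h2').hom := by
      apply h1.hom_ext
      intro k
      rw [IsColimit.comp_coconePointUniqueUpToIso_hom]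
      change (R i).map (colimit.ι (D ⋙ H) k) ≫ (R i).map (P.desc t) = (R i).map (t.ι.app k)
      rw [← Functor.map_comp]
      exact congrArg (R i).map (P.fac t k)
    rw [e]
    infer_instance
  exact IsColimit.ofPointIso P

end Jointly

section Kernel

variable {𝒜 : Type u₁} [Category.{v₁} 𝒜] {ℬ : Type u₂} [Category.{v₂} ℬ] [Abelian ℬ]
  {Λ : Type w} [Category.{w'} Λ] [HasColimitsOfShape Λ ℬ] [HasExactColimitsOfShape Λ ℬ]

/-- the kernel of a natural transformation between two functors preserving a colimit of a shape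
with exact colimits preserves that colimit -/
theorem preservesColimit_of_kernel (H P Q : 𝒜 ⥤ ℬ) (ι : H ⟶ P) (δ : P ⟶ Q)
    (w : ∀ G, ι.app G ≫ δ.app G = 0)
    (hker : ∀ G, IsLimit (KernelFork.ofι (ι.app G) (w G)))
    (D : Λ ⥤ 𝒜) [HasColimit D] [PreservesColimit D P] [PreservesColimit D Q] :
    PreservesColimit D H := by
  apply preservesColimit_of_preserves_colimit_cocone (colimit.isColimit D)
  let c := colimit.cocone D
  have hc : IsColimit c := colimit.isColimit D
  let t := H.mapCocone c
  let PH := colimit.isColimit (D ⋙ H)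
  -- the kernel fork in the functor category
  have wD : Functor.whiskerLeft D ι ≫ Functor.whiskerLeft D δ = 0 := by
    ext k
    exact w (D.obj k)
  have hforkD : IsLimit (KernelFork.ofι (Functor.whiskerLeft D ι) wD) := by
    apply evaluationJointlyReflectsLimits
    intro k
    refine (KernelFork.isLimitMapConeEquiv _ ((evaluation Λ ℬ).obj k)).symm ?_
    exact (hker (D.obj k)).ofIsoLimit (Fork.ext (Iso.refl _) (by simp [KernelFork.map]))
  have hfork1 : IsLimit ((KernelFork.ofι (Functor.whiskerLeft D ι) wD).map (colim (J := Λ) (C := ℬ))) :=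
    KernelFork.mapIsLimit _ hforkD colim
  -- comparison isomorphisms for `P` and `Q`
  let eP : colimit (D ⋙ P) ≅ P.obj c.pt :=
    (colimit.isColimit (D ⋙ P)).coconePointUniqueUpToIso (isColimitOfPreserves P hc)
  let eQ : colimit (D ⋙ Q) ≅ Q.obj c.pt :=
    (colimit.isColimit (D ⋙ Q)).coconePointUniqueUpToIso (isColimitOfPreserves Q hc)
  have heP : ∀ k, colimit.ι (D ⋙ P) k ≫ eP.hom = P.map (c.ι.app k) := fun k =>
    IsColimit.comp_coconePointUniqueUpToIso_hom _ _ k
  have heQ : ∀ k, colimit.ι (D ⋙ Q) k ≫ eQ.hom = Q.map (c.ι.app k) := fun k =>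
    IsColimit.comp_coconePointUniqueUpToIso_hom _ _ k
  have sq : colimMap (Functor.whiskerLeft D δ) ≫ eQ.hom = eP.hom ≫ δ.app c.pt := by
    apply colimit.hom_ext
    intro k
    rw [ι_colimMap_assoc, heQ, reassoc_of% (heP k)]
    exact (δ.naturality (c.ι.app k)).symm
  let f : colimit (D ⋙ H) ⟶ H.obj c.pt := PH.desc t
  have hf : f ≫ ι.app c.pt = colimMap (Functor.whiskerLeft D ι) ≫ eP.hom := by
    apply colimit.hom_ext
    intro k
    have h1 : colimit.ι (D ⋙ H) k ≫ f = H.map (c.ι.app k) := PH.fac t k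
    rw [reassoc_of% h1, ι_colimMap_assoc, heP]
    exact ι.naturality (c.ι.app k)
  have hg0 : (ι.app c.pt ≫ eP.inv) ≫ colimMap (Functor.whiskerLeft D δ) = 0 := by
    have : eP.inv ≫ colimMap (Functor.whiskerLeft D δ) = δ.app c.pt ≫ eQ.inv := by
      rw [Iso.inv_comp_eq, ← Category.assoc, ← sq, Category.assoc, Iso.hom_inv_id, Category.comp_id]
    rw [Category.assoc, this, ← Category.assoc, w, zero_comp]
  let g : H.obj c.pt ⟶ colimit (D ⋙ H) :=
    hfork1.lift (KernelFork.ofι (ι.app c.pt ≫ eP.inv) hg0)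
  have hg : g ≫ colimMap (Functor.whiskerLeft D ι) = ι.app c.pt ≫ eP.inv :=
    hfork1.fac (KernelFork.ofι (ι.app c.pt ≫ eP.inv) hg0) WalkingParallelPair.zero
  have hiso : IsIso f := by
    refine ⟨g, ?_, ?_⟩
    · apply Fork.IsLimit.hom_ext hfork1
      change (f ≫ g) ≫ colimMap (Functor.whiskerLeft D ι) = 𝟙 _ ≫ colimMap (Functor.whiskerLeft D ι)
      rw [Category.assoc, hg, ← Category.assoc, hf, Category.assoc, Iso.hom_inv_id,
        Category.comp_id, Category.id_comp]
    · apply Fork.IsLimit.hom_ext (hker c.pt)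
      change (g ≫ f) ≫ ι.app c.pt = 𝟙 _ ≫ ι.app c.pt
      rw [Category.assoc, hf, ← Category.assoc, hg, Category.assoc, Iso.inv_hom_id,
        Category.comp_id, Category.id_comp]
  exact IsColimit.ofPointIso PH

end Kernel

section Conj

variable {𝒜 : Type u₁} [Category.{v₁} 𝒜] {ℬ : Type u₂} [Category.{v₂} ℬ]
  [Preadditive 𝒜] [Preadditive ℬ]
  {LF LI LK : 𝒜 ⥤ ℬ} {RF RI RK : ℬ ⥤ 𝒜}

lemma homEquiv_symm_comp_conj (adj₁ : LF ⊣ RF) (adj₂ : LI ⊣ RI) (b : LI ⟶ LF) {T : 𝒜} {G : ℬ}
    (f : T ⟶ RF.obj G) :
    (adj₂.homEquiv T G).symm (f ≫ (conjugateEquiv adj₁ adj₂ b).app G) =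
      b.app T ≫ (adj₁.homEquiv T G).symm f := by
  rw [Adjunction.homEquiv_counit, Adjunction.homEquiv_counit, Functor.map_comp, Category.assoc,
    conjugateEquiv_counit, ← Category.assoc, b.naturality, Category.assoc]

variable [LF.Additive] [LI.Additive] [LK.Additive]

/-- conjugates of a right exact sequence of left adjoints `LK → LI → LF → 0` form a left exact
sequence of right adjoints `0 → RF → RI → RK` -/
theorem conj_comp_eq_zero (adjF : LF ⊣ RF) (adjI : LI ⊣ RI) (adjK : LK ⊣ RK)
    (a : LK ⟶ LI) (b : LI ⟶ LF) (hab : ∀ T, a.app T ≫ b.app T = 0) (G : ℬ) :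
    (conjugateEquiv adjF adjI b).app G ≫ (conjugateEquiv adjI adjK a).app G = 0 := by
  apply (adjK.homEquiv _ G).symm.injective
  rw [homEquiv_symm_comp_conj, ← Category.id_comp ((conjugateEquiv adjF adjI b).app G),
    homEquiv_symm_comp_conj, ← Category.assoc, hab, zero_comp]
  simp [Adjunction.homEquiv_counit]

/-- conjugates of a right exact sequence of left adjoints `LK → LI → LF → 0` form a left exact
sequence of right adjoints `0 → RF → RI → RK` -/
noncomputable def isLimitKernelForkConj (adjF : LF ⊣ RF) (adjI : LI ⊣ RI) (adjK : LK ⊣ RK)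
    (a : LK ⟶ LI) (b : LI ⟶ LF) (hab : ∀ T, a.app T ≫ b.app T = 0)
    (hcok : ∀ T, IsColimit (CokernelCofork.ofπ (b.app T) (hab T))) (G : ℬ) :
    IsLimit (KernelFork.ofι ((conjugateEquiv adjF adjI b).app G)
      (conj_comp_eq_zero adjF adjI adjK a b hab G)) := by
  have hepi : ∀ T, Epi (b.app T) := fun T => epi_of_isColimit_cofork (hcok T)
  have key : ∀ {T : 𝒜} (k : T ⟶ RI.obj G), k ≫ (conjugateEquiv adjI adjK a).app G = 0 →
      a.app T ≫ (adjI.homEquiv T G).symm k = 0 := by
    intro T k hk
    rw [← homEquiv_symm_comp_conj adjI adjK a k, hk]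
    simp [Adjunction.homEquiv_counit]
  refine KernelFork.IsLimit.ofι _ _
    (fun {T} k hk => adjF.homEquiv T G
      ((hcok T).desc (CokernelCofork.ofπ ((adjI.homEquiv T G).symm k) (key k hk)))) ?_ ?_
  · intro T k hk
    apply (adjI.homEquiv T G).symm.injective
    rw [homEquiv_symm_comp_conj, Equiv.symm_apply_apply]
    exact (hcok T).fac (CokernelCofork.ofπ ((adjI.homEquiv T G).symm k) (key k hk))
      WalkingParallelPair.one
  · intro T k hk m hm
    apply (adjF.homEquiv T G).symm.injective
    rw [Equiv.symm_apply_apply]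
    have := hepi T
    rw [← cancel_epi (b.app T), ← homEquiv_symm_comp_conj adjF adjI b m, hm]
    exact ((hcok T).fac (CokernelCofork.ofπ ((adjI.homEquiv T G).symm k) (key k hk))
      WalkingParallelPair.one).symm

end Conj

section Biprod

variable (𝒜 : Type u₁) [Category.{v₁} 𝒜] [Preadditive 𝒜] [HasFiniteBiproducts 𝒜]
  (I : Type w) [Finite I]

/-- the functor `G ↦ ⨁_I G` -/
noncomputable def biprodFunctor : 𝒜 ⥤ 𝒜 where
  obj G := ⨁ (fun _ : I => G)
  map f := biproduct.map (fun _ => f)
  map_id G := by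
    ext
    simp
  map_comp f g := by
    ext
    simp

variable {𝒜 I} in
/-- the hom-set bijection of the self adjunction of `G ↦ ⨁_I G` -/
noncomputable def biprodHomEquiv (T G : 𝒜) :
    ((⨁ (fun _ : I => T)) ⟶ G) ≃ (T ⟶ ⨁ (fun _ : I => G)) where
  toFun φ := biproduct.lift (fun i => biproduct.ι (fun _ : I => T) i ≫ φ)
  invFun ψ := biproduct.desc (fun i => ψ ≫ biproduct.π (fun _ : I => G) i)
  left_inv φ := by
    apply biproduct.hom_ext'
    intro i
    simp
  right_inv ψ := by
    apply biproduct.hom_ext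
    intro i
    simp

variable {𝒜 I} in
lemma biprodHomEquiv_apply {T G : 𝒜} (φ : (⨁ (fun _ : I => T)) ⟶ G) :
    biprodHomEquiv T G φ = biproduct.lift (fun i => biproduct.ι (fun _ : I => T) i ≫ φ) := rfl

variable {𝒜 I} in
lemma biprodHomEquiv_symm_apply {T G : 𝒜} (ψ : T ⟶ ⨁ (fun _ : I => G)) :
    (biprodHomEquiv T G).symm ψ =
      biproduct.desc (fun i => ψ ≫ biproduct.π (fun _ : I => G) i) := rfl

/-- `G ↦ ⨁_I G` is self adjoint -/
noncomputable def biprodAdj : biprodFunctor 𝒜 I ⊣ biprodFunctor 𝒜 I :=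
  Adjunction.mkOfHomEquiv
    { homEquiv := fun T G => biprodHomEquiv T G
      homEquiv_naturality_left_symm := fun {T' T G} f ψ => by
        change biproduct.desc (fun i => (f ≫ ψ) ≫ biproduct.π (fun _ : I => G) i) =
          biproduct.map (fun _ => f) ≫ biproduct.desc (fun i => ψ ≫ biproduct.π (fun _ : I => G) i)
        apply biproduct.hom_ext'
        intro i
        simp
      homEquiv_naturality_right := fun {T G G'} φ g => by
        change biproduct.lift (fun i => biproduct.ι (fun _ : I => T) i ≫ φ ≫ g) =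
          biproduct.lift (fun i => biproduct.ι (fun _ : I => T) i ≫ φ) ≫ biproduct.map (fun _ => g)
        apply biproduct.hom_ext
        intro i
        simp }

instance : (biprodFunctor 𝒜 I).IsLeftAdjoint := (biprodAdj 𝒜 I).isLeftAdjoint

variable {𝒜 I} in
lemma biproduct_map_add {X Y : 𝒜} (f g : X ⟶ Y) :
    biproduct.map (fun _ : I => f + g) =
      biproduct.map (fun _ : I => f) + biproduct.map (fun _ : I => g) := by
  apply biproduct.hom_ext
  intro i
  simp [Preadditive.add_comp, Preadditive.comp_add]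

instance : (biprodFunctor 𝒜 I).Additive where
  map_add {X Y f g} := biproduct_map_add f g

end Biprod

end Groth.Agent.Lib.Helper2.IHomColim
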