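import Groth.Agent.Lib.Helper2.IHomColim.Abs
import Groth.Agent.Lib.Helper2.TensPerm.Global
import Groth.Agent.Lib.Helper5.Excision
import Groth.Agent.Lib.Helper17.ModSiteColim
import Groth.Agent.Lib.Helper28.KFlatSite11

/-!
# The internal Hom out of a finitely presented module commutes with filtered colimits (helper2)
-/

set_option autoImplicit false

universe u

open CategoryTheory CategoryTheory.Limits Opposite

namespace Groth.Agent.Lib.Helper2.IHomColim

open Groth.Agent.Lib.Helper17 Groth.Agent.Lib.Helper17.IHom Groth.Agent.Lib.Helper17.Tensor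
  Groth.Agent.Lib.Helper2.TensPerm

noncomputable section

variable {C : Type u} [SmallCategory C] {J : GrothendieckTopology C} (O : Sheaf J CommRingCat.{u})

/-- restriction to a localised site preserves all (small) colimits -/
instance restr_preservesColimits (X : C) :
    PreservesColimitsOfSize.{u, u} (ModSite.restr O X) := by
  have h1 := ModSiteColim.toSheaf_preservesColimits (ModSite.ringSh O)
  have h2 := ModSiteColim.toSheaf_preservesColimits (ModSite.ringSh (O.over X))
  have r2 : ReflectsColimitsOfSize.{u, u} (SheafOfModules.toSheaf.{u} (ModSite.ringSh (O.over X))) :=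
    reflectsColimits_of_reflectsIsomorphisms
  have h3 : PreservesColimitsOfSize.{u, u} (Helper5.RestrExact.restrAb (J := J) X) :=
    ((Over.forget X).sheafAdjunctionCocontinuous AddCommGrpCat.{u} (J.over X) J).leftAdjoint_preservesColimits
  have e : ModSite.restr O X ⋙ SheafOfModules.toSheaf.{u} (ModSite.ringSh (O.over X)) ≅
      SheafOfModules.toSheaf.{u} (ModSite.ringSh O) ⋙ Helper5.RestrExact.restrAb (J := J) X :=
    Iso.refl _
  have c1 : PreservesColimitsOfSize.{u, u}
      (ModSite.restr O X ⋙ SheafOfModules.toSheaf.{u} (ModSite.ringSh (O.over X))) :=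
    preservesColimits_of_natIso e.symm
  exact preservesColimits_of_reflects_of_preserves _
    (SheafOfModules.toSheaf.{u} (ModSite.ringSh (O.over X)))

variable {O}

instance : HasFiniteBiproducts (ModSite.Mod O) := Abelian.hasFiniteBiproducts

/-- `T ⊗ O^I ≅ ⨁_I T` -/
def tensFreeIso (I : Type u) [Finite I] (T : ModSite.Mod O) :
    ((ModSite.tensorBi O).obj T).obj (∐ fun _ : I => ModSite.unit O) ≅ ⨁ (fun _ : I => T) :=
  PreservesCoproduct.iso ((ModSite.tensorBi O).obj T) (fun _ : I => ModSite.unit O) ≪≫
    Sigma.mapIso (fun _ => (Helper28.KFlatSite.rightUnitNatIso (O := O)).app T) ≪≫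
      (biproduct.isoCoproduct (fun _ : I => T)).symm

lemma map_ι_preservesCoproduct_iso_hom (I : Type u) (T : ModSite.Mod O) (i : I) :
    ((ModSite.tensorBi O).obj T).map (Sigma.ι (fun _ : I => ModSite.unit O) i) ≫
      (PreservesCoproduct.iso ((ModSite.tensorBi O).obj T) (fun _ : I => ModSite.unit O)).hom =
      Sigma.ι (fun _ : I => ((ModSite.tensorBi O).obj T).obj (ModSite.unit O)) i := by
  rw [← ι_comp_sigmaComparison ((ModSite.tensorBi O).obj T) (fun _ : I => ModSite.unit O) i,
    ← PreservesCoproduct.inv_hom, Category.assoc, Iso.inv_hom_id, Category.comp_id]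

lemma map_ι_tensFreeIso_hom (I : Type u) [Finite I] (T : ModSite.Mod O) (i : I) :
    ((ModSite.tensorBi O).obj T).map (Sigma.ι (fun _ : I => ModSite.unit O) i) ≫
      (tensFreeIso I T).hom =
      (Helper28.KFlatSite.rightUnitNatIso (O := O)).hom.app T ≫
        biproduct.ι (fun _ : I => T) i := by
  unfold tensFreeIso
  simp only [Iso.trans_hom, Iso.symm_hom]
  rw [reassoc_of% (map_ι_preservesCoproduct_iso_hom I T i)]
  change Sigma.ι _ i ≫ Limits.Sigma.map (fun _ => (Helper28.KFlatSite.rightUnitNatIso (O := O)).hom.app T) ≫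
    _ = _
  rw [Sigma.ι_map_assoc, biproduct.isoCoproduct_inv, Sigma.ι_desc]

lemma tensFreeIso_naturality (I : Type u) [Finite I] {T T' : ModSite.Mod O} (t : T ⟶ T') :
    ((ModSite.tensorBi O).map t).app (∐ fun _ : I => ModSite.unit O) ≫ (tensFreeIso I T').hom =
      (tensFreeIso I T).hom ≫ biproduct.map (fun _ : I => t) := by
  rw [← cancel_epi (PreservesCoproduct.iso ((ModSite.tensorBi O).obj T)
    (fun _ : I => ModSite.unit O)).inv]
  apply Sigma.hom_ext
  intro i
  rw [PreservesCoproduct.inv_hom, ι_comp_sigmaComparison_assoc, ι_comp_sigmaComparison_assoc]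
  have h1 : ((ModSite.tensorBi O).obj T).map (Sigma.ι (fun _ : I => ModSite.unit O) i) ≫
      ((ModSite.tensorBi O).map t).app (∐ fun _ : I => ModSite.unit O) =
      ((ModSite.tensorBi O).map t).app (ModSite.unit O) ≫
        ((ModSite.tensorBi O).obj T').map (Sigma.ι (fun _ : I => ModSite.unit O) i) :=
    ((ModSite.tensorBi O).map t).naturality (Sigma.ι (fun _ : I => ModSite.unit O) i)
  rw [reassoc_of% h1, map_ι_tensFreeIso_hom, reassoc_of% (map_ι_tensFreeIso_hom I T i)]
  have h2 : ((ModSite.tensorBi O).map t).app (ModSite.unit O) ≫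
      (Helper28.KFlatSite.rightUnitNatIso (O := O)).hom.app T' =
      (Helper28.KFlatSite.rightUnitNatIso (O := O)).hom.app T ≫ t :=
    (Helper28.KFlatSite.rightUnitNatIso (O := O)).hom.naturality t
  rw [reassoc_of% h2, biproduct.ι_map]

/-- `- ⊗ O^I ≅ ⨁_I -` -/
def tensFreeNatIso (I : Type u) [Finite I] :
    (ModSite.tensorBi O).flip.obj (SheafOfModules.free (R := ModSite.ringSh O) I) ≅
      biprodFunctor (ModSite.Mod O) I :=
  NatIso.ofComponents (fun T => tensFreeIso I T) (fun {T T'} t => tensFreeIso_naturality I t)

section Pres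

open Groth.Agent.Lib.Helper17.ProjFormula

variable {N : ModSite.Mod O} (P : SheafOfModules.Presentation (R := ModSite.ringSh O) N)

/-- the adjunction `- ⊗ O^I ⊣ ⨁_I -` -/
def tensFreeAdj (I : Type u) [Finite I] :
    (ModSite.tensorBi O).flip.obj (SheafOfModules.free (R := ModSite.ringSh O) I) ⊣
      biprodFunctor (ModSite.Mod O) I :=
  (biprodAdj (ModSite.Mod O) I).ofNatIsoLeft (tensFreeNatIso I).symm

lemma flip_map_rel_gen (T : ModSite.Mod O) :
    ((ModSite.tensorBi O).flip.map (relMap P)).app T ≫
      ((ModSite.tensorBi O).flip.map P.generators.π).app T = 0 := by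
  change ((ModSite.tensorBi O).obj T).map (relMap P) ≫
    ((ModSite.tensorBi O).obj T).map P.generators.π = 0
  rw [← Functor.map_comp, relMap_π, Functor.map_zero]

/-- `T ⊗ -` applied to a presentation is a cokernel diagram -/
def flipIsColimit (T : ModSite.Mod O) :
    IsColimit (CokernelCofork.ofπ (((ModSite.tensorBi O).flip.map P.generators.π).app T)
      (flip_map_rel_gen P T)) :=
  CokernelCofork.mapIsColimit _ (relIsColimit P) ((ModSite.tensorBi O).obj T)

/-- the internal Hom out of a module with a finite global presentation commutes with filtered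
colimits -/
theorem preservesColimit_HFun_of_presentation [P.IsFinite] {Λ : Type u} [SmallCategory Λ]
    [IsFiltered Λ] (D : Λ ⥤ ModSite.Mod O) : PreservesColimit D (HFun N) := by
  haveI : Finite P.generators.I := SheafOfModules.GeneratingSections.IsFiniteType.finite
  haveI : Finite P.relations.I := SheafOfModules.GeneratingSections.IsFiniteType.finite
  haveI := ModSiteExact.hasExactColimitsOfShape_filtered (ModSite.ringSh O) Λ
  let adjF := HAdj N
  let adjI := tensFreeAdj (O := O) P.generators.I
  let adjK := tensFreeAdj (O := O) P.relations.I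
  let a := (ModSite.tensorBi O).flip.map (relMap P)
  let b := (ModSite.tensorBi O).flip.map P.generators.π
  exact preservesColimit_of_kernel (HFun N) (biprodFunctor (ModSite.Mod O) P.generators.I)
    (biprodFunctor (ModSite.Mod O) P.relations.I) (conjugateEquiv adjF adjI b)
    (conjugateEquiv adjI adjK a)
    (fun G => conj_comp_eq_zero adjF adjI adjK a b (flip_map_rel_gen P) G)
    (fun G => isLimitKernelForkConj adjF adjI adjK a b (flip_map_rel_gen P) (flipIsColimit P) G) D

end Pres

section Main

variable (F : ModSite.Mod O) [SheafOfModules.IsFinitePresentation (R := ModSite.ringSh O) F]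
  {Λ : Type u} [SmallCategory Λ] [IsFiltered Λ] (D : Λ ⥤ ModSite.Mod O)

/-- the explicit internal Hom out of a finitely presented module commutes with filtered colimits -/
theorem preservesColimit_HFun : PreservesColimit D (HFun F) := by
  obtain ⟨σ, hσ⟩ := SheafOfModules.IsFinitePresentation.exists_quasicoherentData
    (R := ModSite.ringSh O) F
  have h1 : ∀ i : σ.I, PreservesColimit (D ⋙ HFun F) (ModSite.restr O (σ.X i)) := fun i =>
    inferInstance
  have h2 : ∀ i : σ.I, PreservesColimit D (HFun F ⋙ ModSite.restr O (σ.X i)) := by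
    intro i
    have := hσ.isFinite_presentation i
    have hp : PreservesColimit (D ⋙ ModSite.restr O (σ.X i))
        (HFun ((ModSite.restr O (σ.X i)).obj F)) :=
      @preservesColimit_HFun_of_presentation (Over (σ.X i)) _ (J.over (σ.X i)) (O.over (σ.X i))
        ((ModSite.restr O (σ.X i)).obj F) (σ.presentation i) this Λ _ _
        (D ⋙ ModSite.restr O (σ.X i))
    have hc : PreservesColimit D
        (ModSite.restr O (σ.X i) ⋙ HFun ((ModSite.restr O (σ.X i)).obj F)) := inferInstance
    exact preservesColimit_of_natIso D (restrHFunIso F (σ.X i)).symm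
  exact preservesColimit_of_jointly (HFun F) D (fun i : σ.I => ModSite.restr O (σ.X i))
    (fun f h => Helper5.QS.isIso_of_restr_coversTop O σ.X σ.coversTop f h)

/-- the internal Hom out of a finitely presented module commutes with filtered colimits -/
theorem preservesColimit_sheafHom [ModSite.HasSheafHom F] :
    PreservesColimit D (ModSite.sheafHom F) :=
  haveI := preservesColimit_HFun F D
  preservesColimit_of_natIso D ((ModSite.sheafHomAdj F).rightAdjointUniq (HAdj F)).symm

end Main

end

end Groth.Agent.Lib.Helper2.IHomColim
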